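import Mathlib
import Groth.Agent.Lib.NoetherInt.Refined
import Groth.Agent.Lib.Dim.Ring

/-!
# Noether normalisation adapted to a chain of primes
-/

set_option autoImplicit false

open MvPolynomial

universe u

namespace GrothLib.ChainNorm5

variable (k : Type u) [Field k]

/-- The ideal of the first `h` variables. -/
noncomputable abbrev S (d h : ℕ) : Ideal (MvPolynomial (Fin d) k) :=
  Ideal.span (X '' {l : Fin d | (l : ℕ) < h})

theorem S_mono (d : ℕ) {h h' : ℕ} (hh : h ≤ h') : S k d h ≤ S k d h' :=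
  Ideal.span_mono (Set.image_mono fun _ hl => lt_of_lt_of_le hl hh)

theorem S_zero (d : ℕ) : S k d 0 = ⊥ := by simp

/-- Kill the first `a` variables. -/
noncomputable def π (a e : ℕ) : MvPolynomial (Fin (a + e)) k →ₐ[k] MvPolynomial (Fin e) k :=
  aeval (Fin.addCases (fun _ => 0) (fun j => X j))

/-- The inclusion of the last `e` variables. -/
noncomputable def σ (a e : ℕ) : MvPolynomial (Fin e) k →ₐ[k] MvPolynomial (Fin (a + e)) k :=
  rename (Fin.natAdd a)

theorem π_σ (a e : ℕ) (y : MvPolynomial (Fin e) k) : π k a e (σ k a e y) = y := by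
  have : (π k a e).comp (σ k a e) = AlgHom.id k _ := MvPolynomial.algHom_ext fun i => by simp [π, σ]
  exact DFunLike.congr_fun this y

theorem sub_mem (a e : ℕ) (x : MvPolynomial (Fin (a + e)) k) :
    x - σ k a e (π k a e x) ∈ S k (a + e) a := by
  rw [← Ideal.Quotient.eq]
  have : Ideal.Quotient.mkₐ k (S k (a + e) a) =
      (Ideal.Quotient.mkₐ k (S k (a + e) a)).comp ((σ k a e).comp (π k a e)) := by
    refine MvPolynomial.algHom_ext fun i => ?_
    cases i using Fin.addCases with
    | left i =>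
      have h : (X (Fin.castAdd e i) : MvPolynomial (Fin (a + e)) k) ∈ S k (a + e) a :=
        Ideal.subset_span ⟨Fin.castAdd e i, by simp, rfl⟩
      simp [π, Ideal.Quotient.eq_zero_iff_mem.2 h]
    | right j => simp [π, σ]
  exact DFunLike.congr_fun this x

theorem comap_π_S (a e h : ℕ) : (S k e h).comap (π k a e) = S k (a + e) (a + h) := by
  refine le_antisymm (fun x hx => ?_) ?_
  · have h1 := S_mono k (a + e) (Nat.le_add_right a h) (sub_mem k a e x)
    have h2 : S k e h ≤ (S k (a + e) (a + h)).comap (σ k a e) := by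
      refine Ideal.span_le.2 ?_
      rintro _ ⟨l, hl, rfl⟩
      have hl' : (l : ℕ) < h := hl
      show σ k a e (X l) ∈ S k (a + e) (a + h)
      rw [σ, rename_X]
      exact Ideal.subset_span ⟨Fin.natAdd a l, by simp only [Set.mem_setOf_eq, Fin.val_natAdd]; omega, rfl⟩
    have := Ideal.add_mem _ h1 (h2 hx)
    rwa [sub_add_cancel] at this
  · refine Ideal.span_le.2 ?_
    rintro _ ⟨l, hl, rfl⟩
    show π k a e (X l) ∈ S k e h
    cases l using Fin.addCases with
    | left i => simp [π]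
    | right j =>
      simp only [Set.mem_setOf_eq, Fin.val_natAdd] at hl
      simp only [π, aeval_X, Fin.addCases_right]
      exact Ideal.subset_span ⟨j, by simp only [Set.mem_setOf_eq]; omega, rfl⟩

theorem comap_π_bot (a e : ℕ) :
    (⊥ : Ideal (MvPolynomial (Fin e) k)).comap (π k a e) = S k (a + e) a := by
  rw [← S_zero k e, comap_π_S, Nat.add_zero]

theorem dim_quotient (d h : ℕ) (hh : h ≤ d) :
    ringKrullDim (MvPolynomial (Fin d) k ⧸ S k d h) = ((d - h : ℕ) : WithBot ℕ∞) := by
  obtain ⟨e, rfl⟩ := Nat.exists_eq_add_of_le hh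
  have hs : Function.Surjective (π k h e).toRingHom := fun y => ⟨σ k h e y, π_σ k h e y⟩
  have hker : RingHom.ker (π k h e).toRingHom = S k (h + e) h := comap_π_bot k h e
  rw [← hker, ringKrullDim_eq_of_ringEquiv (RingHom.quotientKerEquivOfSurjective hs),
    MvPolynomial.ringKrullDim_of_isNoetherianRing, ringKrullDim_eq_zero_of_field, zero_add,
    Nat.card_fin, Nat.add_sub_cancel_left]

theorem S_isPrime (d h : ℕ) (hh : h ≤ d) : (S k d h).IsPrime := by
  obtain ⟨e, rfl⟩ := Nat.exists_eq_add_of_le hh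
  rw [← comap_π_bot k h e]
  exact Ideal.IsPrime.comap _

theorem S_injOn (d : ℕ) {h h' : ℕ} (hh : h ≤ d) (hh' : h' ≤ d) (he : S k d h = S k d h') : h = h' := by
  have := dim_quotient k d h hh
  rw [he, dim_quotient k d h' hh'] at this
  have : d - h' = d - h := by exact_mod_cast this
  omega

theorem injective_of_isIntegral {d : ℕ} {A : Type u} [CommRing A] [Algebra k A]
    (φ : MvPolynomial (Fin d) k →ₐ[k] A) (hφ : φ.IsIntegral)
    (hdim : ringKrullDim A = (d : WithBot ℕ∞)) : Function.Injective φ := by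
  let R := MvPolynomial (Fin d) k
  change Function.Injective φ.toRingHom
  rw [RingHom.injective_iff_ker_eq_bot]
  by_contra hne
  obtain ⟨p, hp, hp0⟩ := Submodule.exists_mem_ne_zero_of_ne_bot hne
  let ψ : (R ⧸ RingHom.ker φ.toRingHom) →+* A := RingHom.kerLift φ.toRingHom
  have hψ : ψ.IsIntegral := RingHom.IsIntegral.tower_top (Ideal.Quotient.mk (RingHom.ker φ.toRingHom)) ψ
    (show φ.toRingHom.IsIntegral from hφ)
  letI := ψ.toAlgebra
  haveI : Algebra.IsIntegral (R ⧸ RingHom.ker φ.toRingHom) A := ⟨hψ⟩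
  have h1 := GrothLib.Dim.ringKrullDim_eq_of_isIntegral
    (R := R ⧸ RingHom.ker φ.toRingHom) (S := A) (RingHom.kerLift_injective _)
  have h2 := ringKrullDim_quotient_succ_le_of_nonZeroDivisor (R := R)
    (mem_nonZeroDivisors_of_ne_zero hp0)
  have h3 : ringKrullDim (R ⧸ RingHom.ker φ.toRingHom) ≤ ringKrullDim (R ⧸ Ideal.span {p}) :=
    ringKrullDim_le_of_surjective _
      (Ideal.Quotient.factor_surjective ((Ideal.span_singleton_le_iff_mem _).2 hp))
  rw [MvPolynomial.ringKrullDim_of_isNoetherianRing, ringKrullDim_eq_zero_of_field, zero_add,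
    Nat.card_fin] at h2
  have h4 : ((d + 1 : ℕ) : WithBot ℕ∞) ≤ (d : WithBot ℕ∞) := by
    push_cast
    calc (d : WithBot ℕ∞) + 1 = ringKrullDim A + 1 := by rw [hdim]
      _ ≤ _ := le_trans (add_le_add_left (h1.le.trans h3) 1) h2
  exact absurd (Nat.cast_le.1 h4) (Nat.not_succ_le_self d)

theorem dim_P (d : ℕ) : ringKrullDim (MvPolynomial (Fin d) k) = (d : WithBot ℕ∞) := by
  rw [MvPolynomial.ringKrullDim_of_isNoetherianRing, ringKrullDim_eq_zero_of_field, zero_add,
    Nat.card_fin]

theorem exists_first (d : ℕ) (p : Ideal (MvPolynomial (Fin d) k)) [p.IsPrime] :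
    ∃ a e, ∃ hd : d = a + e, ∃ ψ : MvPolynomial (Fin d) k →ₐ[k] MvPolynomial (Fin d) k,
      ψ.IsIntegral ∧ p.comap ψ = S k d a := by
  obtain ⟨s, hs, φ, hφ, hc⟩ := GrothLib.NoetherInt.exists_integral_comap_eq k d p
  let ρ : MvPolynomial (Fin d) k →ₐ[k] MvPolynomial (Fin d) k := rename Fin.rev
  have hρ : ∀ x, ρ (ρ x) = x := fun x => by
    show rename Fin.rev (rename Fin.rev x) = x
    rw [rename_rename, show (Fin.rev ∘ Fin.rev : Fin d → Fin d) = id from funext Fin.rev_rev,
      rename_id_apply]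
  refine ⟨d - s, s, (Nat.sub_add_cancel hs).symm, φ.comp ρ, ?_, ?_⟩
  · exact RingHom.IsIntegral.trans ρ.toRingHom φ.toRingHom
      (RingHom.isIntegral_of_surjective _ fun x => ⟨ρ x, hρ x⟩) hφ
  · have key : ∀ x, x ∈ p.comap (φ.comp ρ) ↔
        ρ x ∈ Ideal.span (Set.range fun i : {i : Fin d // s ≤ (i : ℕ)} => X (i : Fin d)) := by
      intro x
      rw [← hc]
      simp
    refine le_antisymm (fun x hx => ?_) (Ideal.span_le.2 ?_)
    · have h2 : Ideal.span (Set.range fun i : {i : Fin d // s ≤ (i : ℕ)} => X (i : Fin d)) ≤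
          (S k d (d - s)).comap ρ := by
        refine Ideal.span_le.2 ?_
        rintro _ ⟨i, rfl⟩
        show ρ (X (i : Fin d)) ∈ S k d (d - s)
        have hi : s ≤ ((i : Fin d) : ℕ) := i.2
        have hid : ((i : Fin d) : ℕ) < d := i.1.2
        simp only [ρ, rename_X]
        exact Ideal.subset_span ⟨Fin.rev (i : Fin d),
          by simp only [Set.mem_setOf_eq, Fin.val_rev]; omega, rfl⟩
      have := h2 ((key x).1 hx)
      rwa [Ideal.mem_comap, hρ] at this
    · rintro _ ⟨l, hl, rfl⟩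
      simp only [Set.mem_setOf_eq] at hl
      refine (key _).2 (Ideal.subset_span ⟨⟨Fin.rev l, by simp only [Fin.val_rev]; omega⟩, ?_⟩)
      simp [ρ]

/-- A chain of primes of a polynomial ring becomes a chain of coordinate ideals. -/
theorem exists_chain : ∀ (r d : ℕ) (p : Fin r → Ideal (MvPolynomial (Fin d) k)),
    (∀ i, (p i).IsPrime) → Monotone p →
    ∃ (ψ : MvPolynomial (Fin d) k →ₐ[k] MvPolynomial (Fin d) k) (h : Fin r → ℕ),
      ψ.IsIntegral ∧ (∀ i, h i ≤ d) ∧ ∀ i, (p i).comap ψ = S k d (h i) := by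
  intro r
  induction r with
  | zero =>
    intro d p _ _
    exact ⟨AlgHom.id k _, Fin.elim0, RingHom.isIntegral_of_surjective _ fun x => ⟨x, rfl⟩,
      fun i => i.elim0, fun i => i.elim0⟩
  | succ r ih =>
    intro d p hp hmono
    haveI := hp 0
    obtain ⟨a, e, rfl, ψ₁, hψ₁, hc₁⟩ := exists_first k d (p 0)
    let pb : Fin r → Ideal (MvPolynomial (Fin e) k) := fun i =>
      ((p i.succ).comap ψ₁).comap (σ k a e)
    obtain ⟨ψ₂, h₂, hψ₂, hh₂, hc₂⟩ := ih e pb
      (fun i => by haveI := hp i.succ; exact Ideal.IsPrime.comap _)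
      (fun i j hij => Ideal.comap_mono (Ideal.comap_mono (hmono (Fin.succ_le_succ_iff.2 hij))))
    let ψ' : MvPolynomial (Fin (a + e)) k →ₐ[k] MvPolynomial (Fin (a + e)) k :=
      aeval (Fin.addCases (fun i => X (Fin.castAdd e i)) (fun j => σ k a e (ψ₂ (X j))))
    have hπψ : ∀ x, π k a e (ψ' x) = ψ₂ (π k a e x) := by
      intro x
      have : (π k a e).comp ψ' = ψ₂.comp (π k a e) := by
        refine MvPolynomial.algHom_ext fun i => ?_
        cases i using Fin.addCases with
        | left i => simp [π, ψ']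
        | right j => simp only [AlgHom.comp_apply, ψ', aeval_X, Fin.addCases_right, π_σ]; simp [π]
      exact DFunLike.congr_fun this x
    have hψ' : ψ'.toRingHom.IsIntegral := by
      intro w
      induction w using MvPolynomial.induction_on with
      | C c =>
        have : (C c : MvPolynomial (Fin (a + e)) k) = ψ'.toRingHom (C c) := by simp [ψ']
        rw [this]
        exact ψ'.toRingHom.isIntegralElem_map
      | add p q hp hq => exact hp.add _ hq
      | mul_X p i hp =>
        refine hp.mul _ ?_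
        cases i using Fin.addCases with
        | left i =>
          have : (X (Fin.castAdd e i) : MvPolynomial (Fin (a + e)) k) =
              ψ'.toRingHom (X (Fin.castAdd e i)) := by simp [ψ']
          rw [this]
          exact ψ'.toRingHom.isIntegralElem_map
        | right j =>
          have h1 := (hψ₂ (X j)).map (σ k a e).toRingHom
          have h0 : (σ k a e).comp ψ₂ = ψ'.comp (σ k a e) :=
            MvPolynomial.algHom_ext fun i => by simp [ψ', σ]
          have : (σ k a e).toRingHom.comp ψ₂.toRingHom = ψ'.toRingHom.comp (σ k a e).toRingHom :=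
            RingHom.ext fun x => DFunLike.congr_fun h0 x
          have h2 : (σ k a e).toRingHom (X j) = X (Fin.natAdd a j) := rename_X _ _
          rw [h2] at h1
          exact RingHom.IsIntegralElem.of_comp (this ▸ h1)
    refine ⟨ψ₁.comp ψ', Fin.cons a (fun i => a + h₂ i), RingHom.IsIntegral.trans _ _ hψ' hψ₁, ?_, ?_⟩
    · intro i
      cases i using Fin.cases with
      | zero => simp
      | succ i => simp [hh₂ i]
    · intro i
      cases i using Fin.cases with
      | zero =>
        ext x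
        simp only [Fin.cons_zero]
        show ψ₁ (ψ' x) ∈ p 0 ↔ _
        rw [← Ideal.mem_comap, hc₁, ← comap_π_bot k a e, Ideal.mem_comap, Ideal.mem_comap, hπψ,
          Submodule.mem_bot, Submodule.mem_bot]
        exact map_eq_zero_iff ψ₂ (injective_of_isIntegral k ψ₂ hψ₂ (dim_P k e))
      | succ i =>
        have hJ : ∀ y, y ∈ (p i.succ).comap ψ₁ ↔ π k a e y ∈ pb i := by
          intro y
          have hd : y - σ k a e (π k a e y) ∈ (p i.succ).comap ψ₁ :=
            (hc₁ ▸ Ideal.comap_mono (hmono (Fin.zero_le _)) : S k (a + e) a ≤ _) (sub_mem k a e y)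
          exact ⟨fun hy => by simpa [pb] using ((p i.succ).comap ψ₁).sub_mem hy hd,
            fun hy => by simpa using Ideal.add_mem _ hd (show σ k a e (π k a e y) ∈ _ from hy)⟩
        ext x
        simp only [Fin.cons_succ]
        show ψ' x ∈ (p i.succ).comap ψ₁ ↔ _
        rw [hJ, hπψ, ← Ideal.mem_comap (f := ψ₂), hc₂, ← comap_π_S, Ideal.mem_comap]

variable {k}

theorem exists_normalization {A : Type u} [CommRing A] [IsDomain A] [Algebra k A]
    [Algebra.FiniteType k A] {d : ℕ} (hd : ringKrullDim A = (d : WithBot ℕ∞))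
    {r : ℕ} (q : Fin r → Ideal A) (hq : ∀ i, (q i).IsPrime) (hmono : Monotone q)
    (h : Fin r → ℕ) (hh : ∀ i, h i ≤ d)
    (hdim : ∀ i, ringKrullDim (A ⧸ q i) = ((d - h i : ℕ) : WithBot ℕ∞)) :
    ∃ φ : MvPolynomial (Fin d) k →ₐ[k] A, φ.toRingHom.Finite ∧ Function.Injective φ ∧
      ∀ i, (q i).comap φ = S k d (h i) := by
  obtain ⟨s, g, hginj, hgfin⟩ := exists_finite_inj_algHom_of_fg k A
  have hgint : g.toRingHom.IsIntegral := RingHom.IsIntegral.of_finite hgfin
  obtain rfl : d = s := by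
    letI := g.toRingHom.toAlgebra
    haveI : Algebra.IsIntegral (MvPolynomial (Fin s) k) A := ⟨hgint⟩
    have h1 := GrothLib.Dim.ringKrullDim_eq_of_isIntegral (R := MvPolynomial (Fin s) k) (S := A) hginj
    rw [hd, dim_P] at h1
    exact_mod_cast h1
  obtain ⟨ψ, h', hψ, hh', hc⟩ := exists_chain k r d (fun i => (q i).comap g)
    (fun i => by haveI := hq i; exact Ideal.IsPrime.comap _) (fun i j hij => Ideal.comap_mono (hmono hij))
  have hint : (g.comp ψ).toRingHom.IsIntegral := RingHom.IsIntegral.trans _ _ hψ hgint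
  refine ⟨g.comp ψ, ?_, injective_of_isIntegral k _ hint hd, fun i => ?_⟩
  · refine hint.to_finite (RingHom.FiniteType.of_comp_finiteType
      (f := algebraMap k (MvPolynomial (Fin d) k)) ?_)
    show ((g.comp ψ : MvPolynomial (Fin d) k →+* A).comp (algebraMap k (MvPolynomial (Fin d) k))).FiniteType
    rw [AlgHom.comp_algebraMap]
    exact RingHom.finiteType_algebraMap.2 inferInstance
  · have hci : (q i).comap (g.comp ψ) = S k d (h' i) := by
      rw [← hc i]; rfl
    let f : MvPolynomial (Fin d) k ⧸ (q i).comap (g.comp ψ).toRingHom →+* A ⧸ q i :=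
      Ideal.quotientMap (q i) (g.comp ψ).toRingHom le_rfl
    have hf : f.IsIntegral := RingHom.IsIntegral.tower_top (Ideal.Quotient.mk _) f (by
      rw [Ideal.quotientMap_comp_mk]
      exact RingHom.IsIntegral.trans _ _ hint
        (RingHom.isIntegral_of_surjective _ Ideal.Quotient.mk_surjective))
    have hfinj : Function.Injective f := Ideal.quotientMap_injective
    letI := f.toAlgebra
    haveI : Algebra.IsIntegral (MvPolynomial (Fin d) k ⧸ (q i).comap (g.comp ψ).toRingHom) (A ⧸ q i) := ⟨hf⟩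
    have h1 := GrothLib.Dim.ringKrullDim_eq_of_isIntegral
      (R := MvPolynomial (Fin d) k ⧸ (q i).comap (g.comp ψ).toRingHom) (S := A ⧸ q i) hfinj
    rw [hdim i, show (q i).comap (g.comp ψ).toRingHom = S k d (h' i) from hci,
      dim_quotient k d _ (hh' i)] at h1
    have h2 : d - h i = d - h' i := by exact_mod_cast h1
    have h3 := hh i
    have h4 := hh' i
    rw [hci, show h' i = h i by omega]

theorem exists_step {A : Type u} [CommRing A] [Algebra k A] {d : ℕ}
    (φ : MvPolynomial (Fin d) k →ₐ[k] A) (hint : φ.toRingHom.IsIntegral) {j b : ℕ} (hjb : j < b) (hb : b ≤ d)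
    (Qj Qb : Ideal A) [Qj.IsPrime] [Qb.IsPrime] (hle : Qj ≤ Qb)
    (hj : Qj.comap φ = S k d j) (hbc : Qb.comap φ = S k d b) :
    ∃ Q : Ideal A, Q.IsPrime ∧ Qj ≤ Q ∧ Q ≤ Qb ∧ Q.comap φ = S k d (j + 1) := by
  obtain ⟨e, rfl⟩ := Nat.exists_eq_add_of_le ((le_of_lt hjb).trans hb)
  let g : MvPolynomial (Fin e) k →+* A ⧸ Qj :=
    ((Ideal.Quotient.mk Qj).comp φ.toRingHom).comp (σ k j e).toRingHom
  have hgπ : ∀ x, g (π k j e x) = Ideal.Quotient.mk Qj (φ x) := by
    intro x
    refine Eq.symm (Ideal.Quotient.eq.2 ?_)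
    have := sub_mem k j e x
    rw [← hj, Ideal.mem_comap, map_sub] at this
    exact this
  have hgint : g.IsIntegral := by
    refine RingHom.IsIntegral.tower_top (π k j e).toRingHom g ?_
    rw [show g.comp (π k j e).toRingHom = (Ideal.Quotient.mk Qj).comp φ.toRingHom from RingHom.ext hgπ]
    exact RingHom.IsIntegral.trans _ _ hint
      (RingHom.isIntegral_of_surjective _ Ideal.Quotient.mk_surjective)
  have hginj : Function.Injective g := by
    rw [injective_iff_map_eq_zero]
    intro y hy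
    have h1 : σ k j e y ∈ Qj.comap φ := (Ideal.Quotient.eq_zero_iff_mem (I := Qj)).1 hy
    rw [hj, ← comap_π_bot k j e, Ideal.mem_comap, π_σ] at h1
    exact h1
  letI := g.toAlgebra
  haveI : Algebra.IsIntegral (MvPolynomial (Fin e) k) (A ⧸ Qj) := ⟨hgint⟩
  haveI : FaithfulSMul (MvPolynomial (Fin e) k) (A ⧸ Qj) := (faithfulSMul_iff_algebraMap_injective _ _).2 hginj
  haveI : (Qb.map (Ideal.Quotient.mk Qj)).IsPrime :=
    Ideal.map_isPrime_of_surjective Ideal.Quotient.mk_surjective (by rwa [Ideal.mk_ker])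
  haveI : (Qb.map (Ideal.Quotient.mk Qj)).LiesOver (S k e (b - j)) := by
    refine ⟨?_⟩
    ext y
    show _ ↔ g y ∈ Qb.map (Ideal.Quotient.mk Qj)
    have hk : (Qb.map (Ideal.Quotient.mk Qj)).comap (Ideal.Quotient.mk Qj) = Qb := by
      rw [Ideal.comap_map_of_surjective _ Ideal.Quotient.mk_surjective, ← RingHom.ker_eq_comap_bot,
        Ideal.mk_ker, sup_eq_left.2 hle]
    have : g y ∈ Qb.map (Ideal.Quotient.mk Qj) ↔ σ k j e y ∈ Qb.comap φ := by
      show φ (σ k j e y) ∈ (Qb.map (Ideal.Quotient.mk Qj)).comap (Ideal.Quotient.mk Qj) ↔ _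
      rw [hk]
      rfl
    rw [this, hbc, show b = j + (b - j) by omega, ← comap_π_S, Ideal.mem_comap, π_σ,
      show j + (b - j) - j = b - j by omega]
  haveI : (S k e 1).IsPrime := S_isPrime k e 1 (by omega)
  haveI : (S k e (b - j)).IsPrime := S_isPrime k e (b - j) (by omega)
  obtain ⟨Q', hQ'le, hQ'p, hQ'o⟩ :=
    (Qb.map (Ideal.Quotient.mk Qj)).exists_ideal_le_liesOver_of_le
      (p := S k e 1) (q := S k e (b - j)) (S_mono k e (by omega))
  refine ⟨Q'.comap (Ideal.Quotient.mk Qj), Ideal.IsPrime.comap _, ?_, ?_, ?_⟩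
  · intro x hx
    rw [Ideal.mem_comap, Ideal.Quotient.eq_zero_iff_mem.2 hx]
    exact zero_mem _
  · refine (Ideal.comap_mono hQ'le).trans ?_
    rw [Ideal.comap_map_of_surjective _ Ideal.Quotient.mk_surjective, ← RingHom.ker_eq_comap_bot,
      Ideal.mk_ker, sup_eq_left.2 hle]
  · rw [← comap_π_S]
    ext x
    rw [Ideal.mem_comap, Ideal.mem_comap, Ideal.mem_comap, ← hgπ, hQ'o.over]
    rfl

theorem eq_of_le_of_comap_eq {A : Type u} [CommRing A] [Algebra k A] {d : ℕ}
    (φ : MvPolynomial (Fin d) k →ₐ[k] A) (hint : φ.toRingHom.IsIntegral) (I J : Ideal A) [I.IsPrime]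
    (hle : I ≤ J) (he : I.comap φ = J.comap φ) : I = J := by
  by_contra hne
  obtain ⟨x, hx1, hx2⟩ := SetLike.exists_of_lt (lt_of_le_of_ne hle hne)
  letI := φ.toRingHom.toAlgebra
  exact (Ideal.comap_lt_comap_of_integral_mem_sdiff (R := MvPolynomial (Fin d) k)
    (I := I) (J := J) hle ⟨hx1, hx2⟩ (hint x)).ne he

/-- An integral extension of a polynomial ring lifts the chain of coordinate ideals through given primes. -/
theorem exists_fill {A : Type u} [CommRing A] [IsDomain A] [Algebra k A] {d : ℕ}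
    (φ : MvPolynomial (Fin d) k →ₐ[k] A) (hint : φ.toRingHom.IsIntegral) (hinj : Function.Injective φ)
    {r : ℕ} (q : Fin r → PrimeSpectrum A) (hq : Monotone q) (h : Fin r → ℕ) (hh : ∀ i, h i ≤ d)
    (hc : ∀ i, (q i).asIdeal.comap φ = S k d (h i)) :
    ∃ Q : ℕ → PrimeSpectrum A, (∀ j, j ≤ d → (Q j).asIdeal.comap φ = S k d j) ∧
      (∀ j, j < d → Q j < Q (j + 1)) ∧ ∀ i, Q (h i) = q i := by
  classical
  let Inv : ℕ → PrimeSpectrum A → Prop := fun j Q =>
    Q.asIdeal.comap φ = S k d j ∧ ∀ i, j ≤ h i → Q ≤ q i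
  have step : ∀ j Q, j < d → Inv j Q → ∃ Q', Inv (j + 1) Q' ∧ Q ≤ Q' := by
    intro j Q hjd hQ
    by_cases hne : (Finset.univ.filter fun i : Fin r => j + 1 ≤ h i).Nonempty
    · let i₀ := (Finset.univ.filter fun i : Fin r => j + 1 ≤ h i).min' hne
      have hi₀ : j + 1 ≤ h i₀ := (Finset.mem_filter.1 (Finset.min'_mem _ hne)).2
      obtain ⟨Q', hQ'p, h1, h2, h3⟩ := exists_step φ hint hi₀ (hh i₀) Q.asIdeal (q i₀).asIdeal
        (hQ.2 i₀ (by omega)) hQ.1 (hc i₀)
      exact ⟨⟨Q', hQ'p⟩, ⟨h3, fun i hi => le_trans (b := q i₀) h2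
        (hq (Finset.min'_le (Finset.univ.filter fun i : Fin r => j + 1 ≤ h i) i (by simpa using hi)))⟩, h1⟩
    · letI := φ.toRingHom.toAlgebra
      haveI : Algebra.IsIntegral (MvPolynomial (Fin d) k) A := ⟨hint⟩
      haveI := S_isPrime k d (j + 1) hjd
      obtain ⟨Q', hQle, hQ'p, hQ'c⟩ := Ideal.exists_ideal_over_prime_of_isIntegral_of_isPrime
        (S k d (j + 1)) Q.asIdeal (show Q.asIdeal.comap φ ≤ _ from hQ.1 ▸ S_mono k d (Nat.le_succ j))
      exact ⟨⟨Q', hQ'p⟩, ⟨hQ'c, fun i hi =>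
        absurd (⟨i, by simpa using hi⟩ : (Finset.univ.filter fun i : Fin r => j + 1 ≤ h i).Nonempty) hne⟩, hQle⟩
  let f : ℕ → PrimeSpectrum A := fun n => Nat.rec (motive := fun _ => PrimeSpectrum A) ⟨⊥, Ideal.isPrime_bot⟩
    (fun j Q => if hQ : j < d ∧ Inv j Q then (step j Q hQ.1 hQ.2).choose else Q) n
  have hf : ∀ j, j ≤ d → Inv j (f j) := by
    intro j
    induction j with
    | zero =>
      intro _
      refine ⟨?_, fun i _ => bot_le (a := (q i).asIdeal)⟩
      rw [S_zero]
      exact Ideal.comap_bot_of_injective φ hinj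
    | succ j ih =>
      intro hj
      have hQ := ih (by omega)
      show Inv (j + 1) (dite _ _ _)
      rw [dif_pos ⟨hj, hQ⟩]
      exact (step j (f j) hj hQ).choose_spec.1
  refine ⟨f, fun j hj => (hf j hj).1, fun j hj => ?_, fun i => ?_⟩
  · have hQ := hf j hj.le
    have hle : f j ≤ f (j + 1) := by
      show f j ≤ dite _ _ _
      rw [dif_pos ⟨hj, hQ⟩]
      exact (step j (f j) hj hQ).choose_spec.2
    refine lt_of_le_of_ne hle fun he => ?_
    have := (hf (j + 1) hj).1
    rw [← he, hQ.1] at this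
    exact absurd (S_injOn k d hj.le hj this) (by omega)
  · have hQ := hf (h i) (hh i)
    exact PrimeSpectrum.ext (@eq_of_le_of_comap_eq k _ A _ _ d φ hint (f (h i)).asIdeal (q i).asIdeal (f (h i)).isPrime
      (hQ.2 i le_rfl) (hQ.1.trans (hc i).symm))

end GrothLib.ChainNorm5
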